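import Groth.Agent.SheafHomX.Basic
import Groth.Agent.H23.ModLoc
import Groth.Agent.SiteBase.ExtMod
import Groth.Agent.KFlatLib.Scheme.PullTensorCx
import Groth.Agent.ExtShX.PushH
import Groth.Agent.FModLib.AdicML
import Groth.Agent.AmpleVan.LiftFibre
import Groth.Prelude.Def_DCoh4

/-! Locally split extensions whose sheaf of homomorphisms has no first cohomology are split. -/

set_option autoImplicit false
set_option backward.isDefEq.respectTransparency false
set_option backward.isDefEq.respectTransparency.types false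
set_option linter.style.haveILetI false
set_option maxHeartbeats 800000
universe u

open CategoryTheory CategoryTheory.Limits AlgebraicGeometry TopologicalSpace Opposite Abelian

noncomputable section

namespace Groth.Agent.LocSplit

variable {X : Scheme.{u}}

theorem epi_hom_map_of_locSplit (C : X.Modules) {E : X.Modules} (g : E ⟶ C)
    (hloc : ∀ x : X, ∃ U : X.Opens, x ∈ U ∧ ∃ s : (Scheme.Modules.restrictFunctor U.ι).obj C ⟶
      (Scheme.Modules.restrictFunctor U.ι).obj E, s ≫ (Scheme.Modules.restrictFunctor U.ι).map g = 𝟙 _) :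
    Epi ((SheafHomX.hom C).map g) := by
  refine ⟨fun {W} a b hab => H23.ModLoc.hom_ext_of_locally a b fun x => ?_⟩
  obtain ⟨U, hxU, s, hs⟩ := hloc x
  refine ⟨U, hxU, ?_⟩
  suffices he : Epi ((Scheme.Modules.restrictFunctor U.ι).map ((SheafHomX.hom C).map g)) by
    haveI := he
    rw [← cancel_epi ((Scheme.Modules.restrictFunctor U.ι).map ((SheafHomX.hom C).map g)), ← Functor.map_comp,
      ← Functor.map_comp, hab]
  let H := SheafHomX.hom ((Scheme.Modules.restrictFunctor U.ι).obj C)
  haveI : Epi (H.map ((Scheme.Modules.restrictFunctor U.ι).map g)) := by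
    haveI : IsSplitEpi (H.map ((Scheme.Modules.restrictFunctor U.ι).map g)) :=
      IsSplitEpi.mk' ⟨H.map s, by rw [← Functor.map_comp, hs, CategoryTheory.Functor.map_id]⟩
    infer_instance
  have : Epi ((Scheme.Modules.restrictFunctor U.ι).map ((SheafHomX.hom C).map g) ≫
      (SheafHomX.restrictIso U.ι C).hom.app C) := by
    rw [SheafHomX.restrict_map]; infer_instance
  exact (epi_comp_iff_of_isIso _ _).1 this

/-- A locally split extension of `C` by `N` is split if `H¹(Hom(C, N)) = 0`. -/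
theorem exists_section {S : ShortComplex X.Modules} (hS : S.ShortExact)
    (hloc : ∀ x : X, ∃ U : X.Opens, x ∈ U ∧ ∃ s : (Scheme.Modules.restrictFunctor U.ι).obj S.X₃ ⟶
      (Scheme.Modules.restrictFunctor U.ι).obj S.X₂, s ≫ (Scheme.Modules.restrictFunctor U.ι).map S.g = 𝟙 _)
    (h1 : Subsingleton (Coh.HH X ((SheafHomX.hom S.X₃).obj S.X₁) 1)) : ∃ s : S.X₃ ⟶ S.X₂, s ≫ S.g = 𝟙 _ := by
  haveI : HasExt.{u} (SheafOfModules.{u} X.ringCatSheaf) := IsGrothendieckAbelian.hasExt _
  let F := SheafHomX.hom S.X₃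
  haveI : PreservesLimits F := (SheafHomX.adj S.X₃).rightAdjoint_preservesLimits
  haveI hl : PreservesFiniteLimits F := inferInstance
  have h := ((Functor.preservesFiniteLimits_tfae F).out 3 0 rfl rfl).1 hl S hS
  haveI := hS.epi_g
  have hF : (S.map F).ShortExact := @ShortComplex.ShortExact.mk _ _ _ _ h.1 h.2 (epi_hom_map_of_locSplit S.X₃ S.g hloc)
  obtain ⟨q⟩ := SiteBase.nonempty_ext_unit_addEquiv (R := X.ringCatSheaf) (F.obj S.X₁) 1
  let t : Coh.structureModule X ⟶ F.obj S.X₃ := (SheafHomX.ev S.X₃ S.X₃).symm (𝟙 _)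
  haveI : HasExt.{u} X.Modules := ‹HasExt.{u} (SheafOfModules.{u} X.ringCatSheaf)›
  haveI : Subsingleton (Ext.{u} (Coh.structureModule X) (S.map F).X₁ 1) := q.toEquiv.subsingleton
  obtain ⟨x₂, hx₂⟩ := Ext.covariant_sequence_exact₃ (Coh.structureModule X) hF (Ext.mk₀ t) (zero_add 1)
    (Subsingleton.elim _ _)
  obtain ⟨t', rfl⟩ := (Ext.mk₀_bijective _ _).2 x₂
  rw [Ext.mk₀_comp_mk₀] at hx₂
  have ht : t' ≫ F.map S.g = t := (Ext.mk₀_bijective _ _).1 hx₂
  exact ⟨SheafHomX.ev S.X₃ S.X₂ t', by rw [← SheafHomX.ev_naturality, ht]; exact (SheafHomX.ev S.X₃ S.X₃).apply_symm_apply _⟩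

/-- The morphism extends locally to the whole of the source. -/
def LocExtends {G M N : X.Modules} (φ : G ⟶ M) (κ : kernel φ ⟶ N) : Prop :=
  ∀ x : X, ∃ U : X.Opens, x ∈ U ∧ ∃ θ : (Scheme.Modules.restrictFunctor U.ι).obj G ⟶
    (Scheme.Modules.restrictFunctor U.ι).obj N,
    (Scheme.Modules.restrictFunctor U.ι).map (kernel.ι φ) ≫ θ = (Scheme.Modules.restrictFunctor U.ι).map κ

section Ext

variable {G M N : X.Modules} (φ : G ⟶ M) (κ : kernel φ ⟶ N)

/-- The projection of the pushed out extension. -/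
def extMap : pushout (kernel.ι φ) κ ⟶ M := pushout.desc φ 0 (by rw [kernel.condition, comp_zero])

theorem inl_extMap : pushout.inl (kernel.ι φ) κ ≫ extMap φ κ = φ := pushout.inl_desc _ _ _

theorem inr_extMap : pushout.inr (kernel.ι φ) κ ≫ extMap φ κ = 0 := pushout.inr_desc _ _ _

/-- The pushed out extension of `M` by `N`. -/
abbrev extComplex : ShortComplex X.Modules :=
  ShortComplex.mk (pushout.inr (kernel.ι φ) κ) (extMap φ κ) (inr_extMap φ κ)

variable [Epi φ]

theorem extComplex_shortExact : (extComplex φ κ).ShortExact := by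
  let inl : G ⟶ pushout (kernel.ι φ) κ := pushout.inl _ _
  let inr : N ⟶ pushout (kernel.ι φ) κ := pushout.inr _ _
  have hw : kernel.ι φ ≫ inl = κ ≫ inr := pushout.condition
  let g := extMap φ κ
  have hgl : inl ≫ g = φ := inl_extMap φ κ
  have hgr : inr ≫ g = 0 := inr_extMap φ κ
  haveI : Epi g := epi_of_epi_fac hgl
  haveI : Mono inr := inferInstanceAs (Mono (pushout.inr (kernel.ι φ) κ))
  refine { exact := ?_, mono_f := ‹Mono inr›, epi_g := ‹Epi g› }
  exact ShortComplex.exact_of_g_is_cokernel _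
    (CokernelCofork.IsColimit.ofπ g hgr
      (fun {W} k hk => (Abelian.epiIsCokernelOfKernel _ (kernelIsKernel φ)).desc
        (CokernelCofork.ofπ (inl ≫ k) (by
          show kernel.ι φ ≫ inl ≫ k = 0
          rw [← Category.assoc, hw, Category.assoc, hk, comp_zero])))
      (fun {W} k hk => by
        apply pushout.hom_ext
        · show inl ≫ g ≫ _ = inl ≫ k
          rw [← Category.assoc, hgl]
          exact (Abelian.epiIsCokernelOfKernel _ (kernelIsKernel φ)).fac _ WalkingParallelPair.one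
        · show inr ≫ g ≫ _ = inr ≫ k
          rw [← Category.assoc, hgr, zero_comp, hk])
      (fun {W} k hk m hm => by
        rw [← cancel_epi g]
        refine hm.trans (pushout.hom_ext ?_ ?_)
        · show inl ≫ k = inl ≫ g ≫ _
          rw [← Category.assoc, hgl]
          exact ((Abelian.epiIsCokernelOfKernel _ (kernelIsKernel φ)).fac (CokernelCofork.ofπ (inl ≫ k) (by
            show kernel.ι φ ≫ inl ≫ k = 0
            rw [← Category.assoc, hw, Category.assoc, hk, comp_zero])) WalkingParallelPair.one).symm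
        · show inr ≫ k = inr ≫ g ≫ _
          rw [← Category.assoc, hgr, zero_comp]
          exact hk))

variable {φ κ} in
theorem extComplex_locSplit (hloc : LocExtends φ κ) (x : X) :
    ∃ U : X.Opens, x ∈ U ∧ ∃ s : (Scheme.Modules.restrictFunctor U.ι).obj M ⟶
      (Scheme.Modules.restrictFunctor U.ι).obj (pushout (kernel.ι φ) κ),
      s ≫ (Scheme.Modules.restrictFunctor U.ι).map (extMap φ κ) = 𝟙 _ := by
  obtain ⟨U, hxU, θ, hθ⟩ := hloc x
  refine ⟨U, hxU, ?_⟩
  let inl : G ⟶ pushout (kernel.ι φ) κ := pushout.inl _ _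
  let inr : N ⟶ pushout (kernel.ι φ) κ := pushout.inr _ _
  let g := extMap φ κ
  have hgr : inr ≫ g = 0 := inr_extMap φ κ
  have hS := extComplex_shortExact φ κ
  haveI := hS.epi_g
  let R := Scheme.Modules.restrictFunctor U.ι
  haveI : PreservesFiniteColimits R :=
    haveI : PreservesColimits R := (Scheme.Modules.restrictAdjunction U.ι).leftAdjoint_preservesColimits
    inferInstance
  haveI : R.PreservesZeroMorphisms := Functor.preservesZeroMorphisms_of_isLeftAdjoint R
  have hpo : IsPushout (R.map (kernel.ι φ)) (R.map κ) (R.map inl) (R.map inr) :=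
    (IsPushout.of_hasPushout (kernel.ι φ) κ).map R
  let r : R.obj (pushout (kernel.ι φ) κ) ⟶ R.obj N := hpo.desc θ (𝟙 _) (by rw [hθ, Category.comp_id])
  have hr : R.map inr ≫ r = 𝟙 _ := hpo.inr_desc _ _ _
  haveI : Epi (R.map g) := inferInstanceAs (Epi (R.map (extComplex φ κ).g))
  have hcok : IsColimit (CokernelCofork.ofπ (R.map g) (show R.map inr ≫ R.map g = 0 by
      rw [← Functor.map_comp, hgr, Functor.map_zero])) :=
    CokernelCofork.mapIsColimit _ (hS.exact.gIsCokernel) R
  let s : R.obj M ⟶ R.obj (pushout (kernel.ι φ) κ) := hcok.desc (CokernelCofork.ofπ (𝟙 _ - r ≫ R.map inr) (by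
    rw [Preadditive.comp_sub, Category.comp_id, ← Category.assoc, hr, Category.id_comp, sub_self]))
  have hs : R.map g ≫ s = 𝟙 _ - r ≫ R.map inr := hcok.fac _ WalkingParallelPair.one
  refine ⟨s, (cancel_epi (R.map g)).1 ?_⟩
  show R.map g ≫ s ≫ R.map g = R.map g ≫ 𝟙 _
  rw [← Category.assoc, hs, Preadditive.sub_comp, Category.id_comp, Category.assoc, ← Functor.map_comp, hgr,
    Functor.map_zero, comp_zero, sub_zero]
  exact (Category.comp_id _).symm

variable {φ κ} in
/-- A section of the extension extends the morphism. -/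
theorem exists_of_section (s : M ⟶ pushout (kernel.ι φ) κ) (hs : s ≫ extMap φ κ = 𝟙 _) :
    ∃ θ : G ⟶ N, kernel.ι φ ≫ θ = κ := by
  let inr : N ⟶ pushout (kernel.ι φ) κ := pushout.inr _ _
  let g := extMap φ κ
  have hgr : inr ≫ g = 0 := inr_extMap φ κ
  have hS := extComplex_shortExact φ κ
  haveI : Mono inr := hS.mono_f
  let r := hS.exact.fIsKernel.lift (KernelFork.ofι (𝟙 (pushout (kernel.ι φ) κ) - g ≫ s) (by
    show (𝟙 _ - g ≫ s) ≫ g = 0
    rw [Preadditive.sub_comp, Category.id_comp, Category.assoc, hs, Category.comp_id, sub_self]))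
  have hr : r ≫ inr = 𝟙 _ - g ≫ s := hS.exact.fIsKernel.fac _ WalkingParallelPair.zero
  have hr' : inr ≫ r = 𝟙 _ := by
    refine (cancel_mono inr).1 ((Category.assoc _ _ _).trans ((congrArg (inr ≫ ·) hr).trans ?_))
    show inr ≫ (𝟙 _ - g ≫ s) = 𝟙 N ≫ inr
    have h1 : inr ≫ g ≫ s = 0 := by rw [← Category.assoc, hgr, zero_comp]
    exact (Preadditive.comp_sub _ _ _).trans ((congrArg₂ (· - ·) (Category.comp_id inr) h1).trans
      ((sub_zero inr).trans (Category.id_comp inr).symm))
  exact ⟨pushout.inl _ _ ≫ r, by rw [← Category.assoc, pushout.condition, Category.assoc]; exact (congrArg (κ ≫ ·) hr').trans (Category.comp_id _)⟩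

variable {φ κ} in
/-- An extension gives a section. -/
theorem exists_section_of_extension (θ : G ⟶ N) (hθ : kernel.ι φ ≫ θ = κ) :
    ∃ s : M ⟶ pushout (kernel.ι φ) κ, s ≫ extMap φ κ = 𝟙 _ := by
  let d := (Abelian.epiIsCokernelOfKernel _ (kernelIsKernel φ)).desc
    (CokernelCofork.ofπ (pushout.inl (kernel.ι φ) κ - θ ≫ pushout.inr (kernel.ι φ) κ) (by
      show kernel.ι φ ≫ _ = 0
      rw [Preadditive.comp_sub, ← Category.assoc, hθ, pushout.condition, sub_self]))
  have hd : φ ≫ d = pushout.inl (kernel.ι φ) κ - θ ≫ pushout.inr (kernel.ι φ) κ :=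
    (Abelian.epiIsCokernelOfKernel _ (kernelIsKernel φ)).fac _ WalkingParallelPair.one
  refine ⟨d, (cancel_epi φ).1 ?_⟩
  rw [← Category.assoc, hd, Preadditive.sub_comp, Category.assoc, inl_extMap, inr_extMap, comp_zero, sub_zero]
  exact (Category.comp_id _).symm

variable {φ κ} in
/-- Local extensions of a morphism on a kernel glue when `H¹(Hom(M, N)) = 0`. -/
theorem exists_extension' (hloc : LocExtends φ κ)
    (h1 : Subsingleton (Coh.HH X ((SheafHomX.hom M).obj N) 1)) : ∃ θ : G ⟶ N, kernel.ι φ ≫ θ = κ := by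
  obtain ⟨s, hs⟩ := exists_section (extComplex_shortExact φ κ) (extComplex_locSplit hloc) h1
  exact exists_of_section s hs

end Ext

/-- Local extensions of a morphism on a kernel glue when `H¹(Hom(M, N)) = 0`. -/
theorem exists_extension {G M N : X.Modules} (φ : G ⟶ M) [Epi φ] (κ : kernel φ ⟶ N)
    (hloc : LocExtends φ κ)
    (h1 : Subsingleton (Coh.HH X ((SheafHomX.hom M).obj N) 1)) : ∃ θ : G ⟶ N, kernel.ι φ ≫ θ = κ :=
  exists_extension' hloc h1

/-- `Hom(M, i_* O) = i_* Hom(i^* M, O)`. -/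
theorem subsingleton_hom_push {Z : Scheme.{u}} (i : Z ⟶ X) [IsClosedImmersion i] (M : X.Modules)
    [DCoh.HasSheafHom ((Scheme.Modules.pullback i).obj M)] (N : Z.Modules)
    (h : Subsingleton (Coh.HH Z ((DCoh.sheafHom ((Scheme.Modules.pullback i).obj M)).obj N) 1)) :
    Subsingleton (Coh.HH X ((SheafHomX.hom M).obj ((Scheme.Modules.pushforward i).obj N)) 1) := by
  let C := (Scheme.Modules.pullback i).obj M
  let e₀ : DCoh.tensorBi.obj M ≅ SheafHomX.ten M := ((KFlatLib.tensorBiFlipIso X).app M).symm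
  let adj₁ := ((SheafHomX.adj M).ofNatIsoLeft e₀.symm).comp (Scheme.Modules.pullbackPushforwardAdjunction i)
  let adj₂ := ((Scheme.Modules.pullbackPushforwardAdjunction i).comp (DCoh.sheafHomAdj C)).ofNatIsoLeft
    ((KFlatLib.pullTensorBiIso i).app M).symm
  let e : (Scheme.Modules.pushforward i).obj ((DCoh.sheafHom C).obj N) ≅
      (SheafHomX.hom M).obj ((Scheme.Modules.pushforward i).obj N) := (adj₂.rightAdjointUniq adj₁).app N
  refine AmpleVan.subsingleton_of_iso e 1 ?_
  exact (Equiv.ofBijective _ (FModLib.bijective_eHH i ((DCoh.sheafHom C).obj N) 1)).symm.subsingleton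

end Groth.Agent.LocSplit
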