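import Groth.Agent.LocSplit.Main
import Groth.Agent.SheafHomX.Smul
import Groth.Agent.SheafHomX.Main
import Groth.Agent.PnCoh.Finite.HHLin
import Groth.Agent.FFun.Basic

/-! The obstruction class of a locally extendable morphism on a kernel, and its linearity. -/

set_option autoImplicit false
set_option backward.isDefEq.respectTransparency false
set_option backward.isDefEq.respectTransparency.types false
set_option linter.style.haveILetI false
set_option maxHeartbeats 800000
universe u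

open CategoryTheory CategoryTheory.Limits AlgebraicGeometry TopologicalSpace Opposite
open Groth.Agent.PnCoh.Finite (mapLin deltaLin exists_of_deltaLin_eq_zero)

noncomputable section

namespace Groth.Agent.LocSplit

open Groth.Agent

variable (A : Type u) [CommRing A] {X : Scheme.{u}} [X.Over (Spec (CommRingCat.of A))]

variable {G M N : X.Modules} (φ : G ⟶ M) [Epi φ]

theorem shortExact_hom_map {S : ShortComplex X.Modules} (hS : S.ShortExact)
    (hloc : ∀ x : X, ∃ U : X.Opens, x ∈ U ∧ ∃ s : (Scheme.Modules.restrictFunctor U.ι).obj S.X₃ ⟶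
      (Scheme.Modules.restrictFunctor U.ι).obj S.X₂, s ≫ (Scheme.Modules.restrictFunctor U.ι).map S.g = 𝟙 _) :
    (S.map (SheafHomX.hom S.X₃)).ShortExact := by
  let F := SheafHomX.hom S.X₃
  haveI : PreservesLimits F := (SheafHomX.adj S.X₃).rightAdjoint_preservesLimits
  haveI hl : PreservesFiniteLimits F := inferInstance
  have h := ((Functor.preservesFiniteLimits_tfae F).out 3 0 rfl rfl).1 hl S hS
  haveI := hS.epi_g
  exact @ShortComplex.ShortExact.mk _ _ _ _ h.1 h.2 (epi_hom_map_of_locSplit S.X₃ S.g hloc)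

variable (κ : kernel φ ⟶ N)

theorem homExt_shortExact (h : LocExtends φ κ) : ((extComplex φ κ).map (SheafHomX.hom M)).ShortExact :=
  shortExact_hom_map (extComplex_shortExact φ κ) (extComplex_locSplit h)

/-- The class of the identity. -/
def idClass (M : X.Modules) : Coh.HH X ((SheafHomX.hom M).obj M) 0 :=
  SheafHomX.cls ((SheafHomX.ev M M).symm (𝟙 M))

/-- The obstruction to extending `κ`. -/
def obsClass (h : LocExtends φ κ) : Coh.HH X ((SheafHomX.hom M).obj N) 1 :=
  deltaLin A (homExt_shortExact φ κ h) 0 (idClass M)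

theorem mapLin_cls {F F' : X.Modules} (y : Coh.structureModule X ⟶ F) (g : F ⟶ F') :
    mapLin A g 0 (SheafHomX.cls y) = SheafHomX.cls (y ≫ g) :=
  SheafHomX.map_cls y g

theorem obsClass_eq_zero_iff (h : LocExtends φ κ) :
    obsClass A φ κ h = 0 ↔ ∃ θ : G ⟶ N, kernel.ι φ ≫ θ = κ := by
  constructor
  · intro h0
    obtain ⟨y, hy⟩ := exists_of_deltaLin_eq_zero A (homExt_shortExact φ κ h) 0 h0
    obtain ⟨z, rfl⟩ := SheafHomX.cls_surjective y
    have hz : z ≫ (SheafHomX.hom M).map (extMap φ κ) = (SheafHomX.ev M M).symm (𝟙 M) :=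
      SheafHomX.cls_injective ((mapLin_cls A z _).symm.trans hy)
    refine exists_of_section (SheafHomX.ev M _ z) ?_
    rw [← SheafHomX.ev_naturality, hz, AddEquiv.apply_symm_apply]
  · rintro ⟨θ, hθ⟩
    obtain ⟨s, hs⟩ := exists_section_of_extension θ hθ
    have hid : idClass M = mapLin A ((SheafHomX.hom M).map (extMap φ κ)) 0
        (SheafHomX.cls ((SheafHomX.ev M _).symm s)) := by
      rw [mapLin_cls, idClass]
      refine congrArg SheafHomX.cls ((SheafHomX.ev M M).injective ?_)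
      rw [AddEquiv.apply_symm_apply, SheafHomX.ev_naturality, AddEquiv.apply_symm_apply, hs]
    exact (QCoh.Ab.connecting_eq_zero_iff (X := X.toPresheafedSpace.carrier)
      (QCoh.toAb_shortExact (homExt_shortExact φ κ h)) 0 (idClass M)).2 ⟨_, hid.symm⟩

/-- Functoriality. -/
theorem mapLin_obsClass {G' N' : X.Modules} (φ' : G' ⟶ M) [Epi φ'] (κ' : kernel φ' ⟶ N') (ν : G ⟶ G')
    (hν : ν ≫ φ' = φ) (g : N ⟶ N')
    (hκ : kernel.map φ φ' ν (𝟙 M) (by rw [Category.comp_id, hν]) ≫ κ' = κ ≫ g)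
    (h : LocExtends φ κ) (h' : LocExtends φ' κ') :
    mapLin A ((SheafHomX.hom M).map g) 1 (obsClass A φ κ h) = obsClass A φ' κ' h' := by
  let τ₂ : pushout (kernel.ι φ) κ ⟶ pushout (kernel.ι φ') κ' :=
    pushout.desc (ν ≫ pushout.inl _ _) (g ≫ pushout.inr _ _) (by
      rw [← Category.assoc (κ), ← hκ, ← Category.assoc, Category.assoc _ κ', ← pushout.condition,
        ← Category.assoc, kernel.lift_ι])
  let τ : (extComplex φ κ).map (SheafHomX.hom M) ⟶ (extComplex φ' κ').map (SheafHomX.hom M) :=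
    (SheafHomX.hom M).mapShortComplex.map
      ({ τ₁ := g, τ₂ := τ₂, τ₃ := 𝟙 M
         comm₁₂ := (pushout.inr_desc _ _ _).symm
         comm₂₃ := by
          apply pushout.hom_ext
          · show pushout.inl _ _ ≫ τ₂ ≫ extMap φ' κ' = pushout.inl _ _ ≫ extMap φ κ ≫ 𝟙 M
            rw [← Category.assoc, pushout.inl_desc, Category.assoc, inl_extMap, ← Category.assoc, inl_extMap,
              Category.comp_id, hν]
          · show pushout.inr _ _ ≫ τ₂ ≫ extMap φ' κ' = pushout.inr _ _ ≫ extMap φ κ ≫ 𝟙 M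
            rw [← Category.assoc, pushout.inr_desc, Category.assoc, inr_extMap, comp_zero, ← Category.assoc,
              inr_extMap, zero_comp] } : extComplex φ κ ⟶ extComplex φ' κ')
  have hn := QCoh.Ab.connecting_naturality (X := X.toPresheafedSpace.carrier)
    (QCoh.toAb_shortExact (homExt_shortExact φ κ h)) (QCoh.toAb_shortExact (homExt_shortExact φ' κ' h'))
    ((QCoh.toAbFunctor _).mapShortComplex.map τ) 0 (idClass M)
  refine hn.trans (congrArg (deltaLin A (homExt_shortExact φ' κ' h') 0) ?_)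
  show mapLin A ((SheafHomX.hom M).map (𝟙 M)) 0 (idClass M) = idClass M
  rw [idClass, mapLin_cls, CategoryTheory.Functor.map_id, Category.comp_id]

theorem locExtends_comp {φ : G ⟶ M} {κ : kernel φ ⟶ N} (h : LocExtends φ κ) {N' : X.Modules} (g : N ⟶ N') :
    LocExtends φ (κ ≫ g) := fun x => by
  obtain ⟨U, hU, θ, hθ⟩ := h x
  exact ⟨U, hU, θ ≫ (Scheme.Modules.restrictFunctor U.ι).map g, by rw [← Category.assoc, hθ, ← Functor.map_comp]⟩

theorem mapLin_obsClass_comp {N' : X.Modules} (g : N ⟶ N') (h : LocExtends φ κ) (h' : LocExtends φ (κ ≫ g)) :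
    mapLin A ((SheafHomX.hom M).map g) 1 (obsClass A φ κ h) = obsClass A φ (κ ≫ g) h' :=
  mapLin_obsClass A φ κ φ (κ ≫ g) (𝟙 G) (Category.id_comp _) g
    (by
      rw [show kernel.map φ φ (𝟙 G) (𝟙 M) (by simp) = 𝟙 _ from (cancel_mono (kernel.ι φ)).1
        ((kernel.lift_ι _ _ _).trans ((Category.comp_id _).trans (Category.id_comp _).symm)), Category.id_comp]) h h'

theorem obsClass_smul (a : A) (h : LocExtends φ κ) (h' : LocExtends φ (κ ≫ Formal.smulMod A N a)) :
    obsClass A φ (κ ≫ Formal.smulMod A N a) h' = a • obsClass A φ κ h := by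
  rw [← mapLin_obsClass_comp A φ κ _ h h', SheafHomX.hom_map_smulMod, FFun.mapLin_smulMod]

theorem exists_restrict {φ : G ⟶ M} {κ : kernel φ ⟶ N} {U V : X.Opens} (hVU : V ≤ U)
    (θ : (Scheme.Modules.restrictFunctor U.ι).obj G ⟶ (Scheme.Modules.restrictFunctor U.ι).obj N)
    (hθ : (Scheme.Modules.restrictFunctor U.ι).map (kernel.ι φ) ≫ θ = (Scheme.Modules.restrictFunctor U.ι).map κ) :
    ∃ θ' : (Scheme.Modules.restrictFunctor V.ι).obj G ⟶ (Scheme.Modules.restrictFunctor V.ι).obj N,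
      (Scheme.Modules.restrictFunctor V.ι).map (kernel.ι φ) ≫ θ' = (Scheme.Modules.restrictFunctor V.ι).map κ := by
  let e : Scheme.Modules.restrictFunctor V.ι ≅
      Scheme.Modules.restrictFunctor U.ι ⋙ Scheme.Modules.restrictFunctor (X.homOfLE hVU) :=
    Scheme.Modules.restrictFunctorCongr (X.homOfLE_ι hVU).symm ≪≫ Scheme.Modules.restrictFunctorComp _ _
  refine ⟨e.hom.app G ≫ (Scheme.Modules.restrictFunctor (X.homOfLE hVU)).map θ ≫ e.inv.app N, ?_⟩
  rw [← Category.assoc, e.hom.naturality, Category.assoc, Functor.comp_map, ← Functor.map_comp_assoc, hθ,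
    ← Functor.comp_map (Scheme.Modules.restrictFunctor U.ι), e.inv.naturality, Iso.hom_inv_id_app_assoc]

theorem locExtends_lift {φ : G ⟶ M} {κ : kernel φ ⟶ N} {N' : X.Modules} {κ' : kernel φ ⟶ N'}
    (h : LocExtends φ κ) (h' : LocExtends φ κ') : LocExtends φ (biprod.lift κ κ') := fun x => by
  obtain ⟨U, hU, θ₁, hθ₁⟩ := h x
  obtain ⟨U', hU', θ₂, hθ₂⟩ := h' x
  obtain ⟨θ, hθ⟩ := exists_restrict (V := U ⊓ U') inf_le_left θ₁ hθ₁
  obtain ⟨θ', hθ'⟩ := exists_restrict (V := U ⊓ U') inf_le_right θ₂ hθ₂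
  refine ⟨U ⊓ U', ⟨hU, hU'⟩, θ ≫ (Scheme.Modules.restrictFunctor (U ⊓ U').ι).map biprod.inl +
    θ' ≫ (Scheme.Modules.restrictFunctor (U ⊓ U').ι).map biprod.inr, ?_⟩
  haveI : (Scheme.Modules.restrictFunctor (U ⊓ U').ι).Additive := inferInstance
  rw [Preadditive.comp_add, ← Category.assoc, ← Category.assoc, hθ, hθ', ← Functor.map_comp, ← Functor.map_comp,
    ← Functor.map_add, ← biprod.lift_eq]

theorem mapLin_add' {F F' : X.Modules} (f g : F ⟶ F') (n : ℕ) (y : Coh.HH X F n) :
    mapLin A (f + g) n y = mapLin A f n y + mapLin A g n y := by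
  show Sheaf.H.map ((QCoh.toAbFunctor X).map (f + g)) n y = _
  rw [Functor.map_add, Sheaf.H.map_add_apply]
  rfl

theorem obsClass_add (κ₂ : kernel φ ⟶ N) (h : LocExtends φ κ) (h₂ : LocExtends φ κ₂) (h' : LocExtends φ (κ + κ₂)) :
    obsClass A φ (κ + κ₂) h' = obsClass A φ κ h + obsClass A φ κ₂ h₂ := by
  have hL := locExtends_lift h h₂
  have key : ∀ (g : N ⊞ N ⟶ N) (κ' : kernel φ ⟶ N) (hκ' : LocExtends φ κ'), biprod.lift κ κ₂ ≫ g = κ' →
      mapLin A ((SheafHomX.hom M).map g) 1 (obsClass A φ _ hL) = obsClass A φ κ' hκ' := fun g κ' hκ' e => by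
    subst e
    exact mapLin_obsClass_comp A φ _ g hL hκ'
  rw [← key biprod.fst κ h (biprod.lift_fst _ _), ← key biprod.snd κ₂ h₂ (biprod.lift_snd _ _),
    ← key (biprod.fst + biprod.snd) _ h' (by rw [Preadditive.comp_add, biprod.lift_fst, biprod.lift_snd]),
    Functor.map_add, mapLin_add']

end Groth.Agent.LocSplit
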